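import Mathlib

set_option linter.style.haveILetI false

/-!
# Lifting an idempotent with finite factor to the integral closure
-/

namespace Groth.Agent.ZmtIdem

open PrimeSpectrum

universe u

variable {A B : Type u} [CommRing A] [CommRing B] [Algebra A B]

/-- Elements over which `B` and the integral closure agree. -/
def Good (A B : Type u) [CommRing A] [CommRing B] [Algebra A B] : Set (integralClosure A B) :=
  {r | ∀ x : B, ∃ m : ℕ, IsIntegral A ((r : B) ^ m * x)}

theorem exists_good [Algebra.FiniteType A B] (q : Ideal B) [q.IsPrime] [Algebra.WeaklyQuasiFiniteAt A q] :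
    ∃ r ∈ Good A B, (r : B) ∉ q := by
  obtain ⟨r, hr, hrint, H⟩ := Algebra.zariskisMainProperty_iff.mp
    (Algebra.ZariskisMainProperty.of_finiteType_of_weaklyQuasiFiniteAt (R := A) q)
  exact ⟨⟨r, hrint⟩, H, hr⟩

/-- A prime not containing a good element is determined by its contraction. -/
theorem eq_of_comap_eq {r : integralClosure A B} (hr : r ∈ Good A B) {Q Q' : PrimeSpectrum B}
    (h : Q.asIdeal.comap (integralClosure A B).val.toRingHom = Q'.asIdeal.comap (integralClosure A B).val.toRingHom)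
    (hQ : (r : B) ∉ Q.asIdeal) : Q = Q' := by
  have hQ' : (r : B) ∉ Q'.asIdeal := fun h' => hQ ((SetLike.ext_iff.mp h r).mpr h')
  refine PrimeSpectrum.ext (SetLike.ext fun x => ?_)
  obtain ⟨m, hm⟩ := hr x
  have := SetLike.ext_iff.mp h ⟨(r : B) ^ m * x, hm⟩
  simp only [Ideal.mem_comap] at this
  constructor
  · intro hx
    exact (Q'.2.mem_or_mem (this.mp (Q.asIdeal.mul_mem_left _ hx))).resolve_left fun h' => hQ' (Q'.2.mem_of_pow_mem m h')
  · intro hx
    exact (Q.2.mem_or_mem (this.mpr (Q'.asIdeal.mul_mem_left _ hx))).resolve_left fun h' => hQ (Q.2.mem_of_pow_mem m h')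

/-- Primes avoiding a good element are contractions. -/
theorem exists_prime_over {r : integralClosure A B} (hr : r ∈ Good A B) (P : PrimeSpectrum (integralClosure A B))
    (hP : r ∉ P.asIdeal) :
    ∃ Q : PrimeSpectrum B, Q.asIdeal.comap (integralClosure A B).val.toRingHom = P.asIdeal := by
  refine (PrimeSpectrum.mem_range_comap_iff (f := (integralClosure A B).val.toRingHom)).mpr ?_ |>.imp
    fun Q hQ => congrArg PrimeSpectrum.asIdeal hQ
  refine le_antisymm ?_ Ideal.le_comap_map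
  intro z hz
  rw [Ideal.mem_comap] at hz
  have key : ∀ y ∈ P.asIdeal.map (integralClosure A B).val.toRingHom,
      ∃ m : ℕ, ∃ w ∈ P.asIdeal, (r : B) ^ m * y = (w : B) := by
    intro y hy
    induction hy using Submodule.span_induction with
    | mem y hy =>
      obtain ⟨w, hw, rfl⟩ := hy
      exact ⟨0, w, hw, by simp⟩
    | zero => exact ⟨0, 0, zero_mem _, by simp⟩
    | add y₁ y₂ _ _ h₁ h₂ =>
      obtain ⟨m₁, w₁, hw₁, e₁⟩ := h₁
      obtain ⟨m₂, w₂, hw₂, e₂⟩ := h₂
      refine ⟨m₁ + m₂, r ^ m₂ * w₁ + r ^ m₁ * w₂, add_mem (Ideal.mul_mem_left _ _ hw₁) (Ideal.mul_mem_left _ _ hw₂), ?_⟩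
      push_cast
      rw [← e₁, ← e₂]
      ring
    | smul c y _ h =>
      obtain ⟨m, w, hw, e⟩ := h
      obtain ⟨m', hm'⟩ := hr c
      refine ⟨m' + m, ⟨(r : B) ^ m' * c, hm'⟩ * w, Ideal.mul_mem_left _ _ hw, ?_⟩
      push_cast
      rw [← e, smul_eq_mul]
      ring
  obtain ⟨m, w, hw, e⟩ := key _ hz
  have h2 : r ^ m * z = w := Subtype.ext (by push_cast; exact e)
  exact (P.2.mem_or_mem (h2 ▸ hw)).resolve_left fun h => hP (P.2.mem_of_pow_mem m h)

variable [Algebra.FiniteType A B]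

theorem weaklyQuasiFiniteAt_of_finite_factor (I : Ideal A) (e : B ⧸ Ideal.map (algebraMap A B) I)
    (he : IsIdempotentElem e)
    [Module.Finite (A ⧸ I) ((B ⧸ Ideal.map (algebraMap A B) I) ⧸ Ideal.span {1 - e})]
    (e₀ : B) (he₀ : Ideal.Quotient.mk _ e₀ = e) (q : Ideal B) [q.IsPrime]
    (hq : Ideal.map (algebraMap A B) I ≤ q) (hqe : e₀ ∉ q) : Algebra.WeaklyQuasiFiniteAt A q := by
  rw [Algebra.weaklyQuasiFiniteAt_iff]
  let C := (B ⧸ Ideal.map (algebraMap A B) I) ⧸ Ideal.span {1 - e}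
  haveI : Algebra.QuasiFinite A C :=
    haveI : Algebra.QuasiFinite A (A ⧸ I) := inferInstance
    .trans A (A ⧸ I) C
  let D := Localization.AtPrime q ⧸ (q.under A).map (algebraMap A (Localization.AtPrime q))
  let π : B →ₐ[A] D := (Ideal.Quotient.mkₐ A _).comp (IsScalarTower.toAlgHom A B (Localization.AtPrime q))
  have hπI : ∀ x ∈ Ideal.map (algebraMap A B) I, π x = 0 := by
    intro x hx
    show Ideal.Quotient.mk _ (algebraMap B (Localization.AtPrime q) x) = 0
    rw [Ideal.Quotient.eq_zero_iff_mem]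
    have h1 := Ideal.mem_map_of_mem (algebraMap B (Localization.AtPrime q)) hx
    rw [Ideal.map_map, ← IsScalarTower.algebraMap_eq] at h1
    exact Ideal.map_mono (fun a ha => show algebraMap A B a ∈ q from hq (Ideal.mem_map_of_mem _ ha)) h1
  let π₁ : (B ⧸ Ideal.map (algebraMap A B) I) →ₐ[A] D := Ideal.Quotient.liftₐ _ π hπI
  have he1 : π₁ (1 - e) = 0 := by
    rw [← he₀, ← map_one (Ideal.Quotient.mk (Ideal.map (algebraMap A B) I)), ← map_sub]
    show π (1 - e₀) = 0
    have hmem : e₀ * (1 - e₀) ∈ Ideal.map (algebraMap A B) I := by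
      rw [← Ideal.Quotient.eq_zero_iff_mem, map_mul, map_sub, map_one, he₀, mul_sub, mul_one, he.eq, sub_self]
    have h1 := hπI _ hmem
    rw [map_mul] at h1
    have hu : IsUnit (π e₀) :=
      (IsLocalization.map_units (Localization.AtPrime q) (⟨e₀, hqe⟩ : q.primeCompl)).map
        (Ideal.Quotient.mk ((q.under A).map (algebraMap A (Localization.AtPrime q))))
    exact hu.mul_right_eq_zero.mp h1
  let π₂ : C →ₐ[A] D := Ideal.Quotient.liftₐ _ π₁ (fun x hx => by
    obtain ⟨c, rfl⟩ := Ideal.mem_span_singleton'.mp hx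
    rw [map_mul, he1, mul_zero])
  refine .of_forall_exists_mul_mem_range π₂ fun x => ?_
  obtain ⟨x, rfl⟩ := Ideal.Quotient.mk_surjective x
  obtain ⟨b, ⟨s, hs⟩, rfl⟩ := IsLocalization.exists_mk'_eq q.primeCompl x
  refine ⟨Ideal.Quotient.mk _ (Ideal.Quotient.mk _ s), (IsLocalization.map_units (Localization.AtPrime q) (⟨s, hs⟩ : q.primeCompl)).map
    (Ideal.Quotient.mk ((q.under A).map (algebraMap A (Localization.AtPrime q)))), Ideal.Quotient.mk _ (Ideal.Quotient.mk _ b), ?_⟩
  show π b = Ideal.Quotient.mk _ _ * Ideal.Quotient.mk _ (algebraMap B _ s)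
  rw [← map_mul, IsLocalization.mk'_spec_mk]
  rfl

theorem exists_lift (I : Ideal A) (e : B ⧸ Ideal.map (algebraMap A B) I)
    (he : IsIdempotentElem e)
    [hfin : Module.Finite (A ⧸ I) ((B ⧸ Ideal.map (algebraMap A B) I) ⧸ Ideal.span {1 - e})] :
    ∃ g : integralClosure A B,
      IsIdempotentElem (Ideal.Quotient.mk (Ideal.map (algebraMap A (integralClosure A B)) I) g) ∧
      Ideal.Quotient.mk (Ideal.map (algebraMap A B) I) (g : B) = e ∧
      ∀ x : B, ∃ m : ℕ, IsIntegral A ((g : B) ^ m * x) := by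
  classical
  obtain ⟨e₀, he₀⟩ := Ideal.Quotient.mk_surjective e
  let B' := integralClosure A B
  let ι : B' →+* B := (integralClosure A B).val.toRingHom
  let I' := Ideal.map (algebraMap A B') I
  let IB := Ideal.map (algebraMap A B) I
  have hI' : I'.map ι = IB := by rw [Ideal.map_map]; rfl
  have hquad : e₀ * (1 - e₀) ∈ IB := by
    rw [← Ideal.Quotient.eq_zero_iff_mem, map_mul, map_sub, map_one, he₀, mul_sub, mul_one, he.eq, sub_self]
  -- the image of `V(K)`
  let K : Ideal B := IB ⊔ Ideal.span {1 - e₀}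
  have hK : ∀ Q : PrimeSpectrum B, K ≤ Q.asIdeal ↔ IB ≤ Q.asIdeal ∧ e₀ ∉ Q.asIdeal := by
    intro Q
    rw [sup_le_iff, Ideal.span_singleton_le_iff_mem]
    refine and_congr_right fun hIB => ⟨fun h h' => Q.2.ne_top ?_, fun h => ?_⟩
    · rw [Ideal.eq_top_iff_one, show (1 : B) = (1 - e₀) + e₀ by ring]
      exact add_mem h h'
    · exact (Q.2.mem_or_mem (hIB hquad)).resolve_left h
  have hint : (Ideal.quotientMap K ι le_rfl).IsIntegral := by
    intro y
    obtain ⟨b, rfl⟩ := Ideal.Quotient.mk_surjective y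
    haveI : Algebra.IsIntegral (A ⧸ I) ((B ⧸ Ideal.map (algebraMap A B) I) ⧸ Ideal.span {1 - e}) := inferInstance
    haveI : Algebra.IsIntegral A ((B ⧸ Ideal.map (algebraMap A B) I) ⧸ Ideal.span {1 - e}) :=
      Algebra.IsIntegral.trans (A ⧸ I)
    obtain ⟨p, hp, hpb⟩ := Algebra.IsIntegral.isIntegral (R := A)
      (Ideal.Quotient.mk (Ideal.span {1 - e}) (Ideal.Quotient.mk IB b))
    refine ⟨p.map ((Ideal.Quotient.mk (K.comap ι)).comp (algebraMap A B')), hp.map _, ?_⟩
    rw [Polynomial.eval₂_map, ← RingHom.comp_assoc, Ideal.quotientMap_comp_mk, RingHom.comp_assoc]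
    show Polynomial.eval₂ ((Ideal.Quotient.mk K).comp (algebraMap A B)) (Ideal.Quotient.mk K b) p = 0
    rw [← Polynomial.hom_eval₂]
    rw [Ideal.Quotient.eq_zero_iff_mem]
    have h1 : Ideal.Quotient.mk (Ideal.span {1 - e}) (Ideal.Quotient.mk IB (p.eval₂ (algebraMap A B) b)) = 0 := by
      rw [Polynomial.hom_eval₂, Polynomial.hom_eval₂]
      exact hpb
    rw [Ideal.Quotient.eq_zero_iff_mem, Ideal.mem_span_singleton'] at h1
    obtain ⟨c, hc⟩ := h1
    obtain ⟨c, rfl⟩ := Ideal.Quotient.mk_surjective c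
    rw [← he₀, ← map_one (Ideal.Quotient.mk IB), ← map_sub, ← map_mul, Ideal.Quotient.eq] at hc
    have : p.eval₂ (algebraMap A B) b = c * (1 - e₀) - (c * (1 - e₀) - p.eval₂ (algebraMap A B) b) := by ring
    rw [this]
    exact sub_mem (Ideal.mem_sup_right (Ideal.mul_mem_left _ _ (Ideal.mem_span_singleton_self _)))
      (Ideal.mem_sup_left hc)
  -- every point of the image has a good element
  have hgood : ∀ P : PrimeSpectrum B', K.comap ι ≤ P.asIdeal →
      ∃ r ∈ Good A B, r ∉ P.asIdeal ∧ ∃ Q : PrimeSpectrum B, K ≤ Q.asIdeal ∧ Q.asIdeal.comap ι = P.asIdeal := by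
    intro P hP
    have hPm : (P.asIdeal.map (Ideal.Quotient.mk (K.comap ι))).IsPrime :=
      Ideal.map_isPrime_of_surjective Ideal.Quotient.mk_surjective (by rwa [Ideal.mk_ker])
    obtain ⟨Q, hQ⟩ := hint.comap_surjective (Ideal.quotientMap_injective) ⟨_, hPm⟩
    let Q₀ : PrimeSpectrum B := PrimeSpectrum.comap (Ideal.Quotient.mk K) Q
    have hKQ : K ≤ Q₀.asIdeal := fun x hx => by
      simp [Q₀, PrimeSpectrum.comap_asIdeal, Ideal.mem_comap, Ideal.Quotient.eq_zero_iff_mem.mpr hx]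
    have hQP : Q₀.asIdeal.comap ι = P.asIdeal := by
      have h1 := congrArg (fun z : PrimeSpectrum _ => z.asIdeal.comap (Ideal.Quotient.mk (K.comap ι))) hQ
      simp only [PrimeSpectrum.comap_asIdeal, Ideal.comap_comap, Ideal.quotientMap_comp_mk] at h1
      rw [Ideal.comap_map_of_surjective _ Ideal.Quotient.mk_surjective, ← RingHom.ker_eq_comap_bot, Ideal.mk_ker,
        sup_eq_left.mpr hP] at h1
      rw [← h1, ← Ideal.comap_comap]
      rfl
    obtain ⟨hq1, hq2⟩ := (hK Q₀).mp hKQ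
    haveI := weaklyQuasiFiniteAt_of_finite_factor I e he e₀ he₀ Q₀.asIdeal hq1 hq2
    obtain ⟨r, hr, hrQ⟩ := exists_good (A := A) Q₀.asIdeal
    exact ⟨r, hr, fun h => hrQ ((SetLike.ext_iff.mp hQP r).mpr h), Q₀, hKQ, hQP⟩
  -- the clopen set
  let c : Good A B → B' := fun r => ⟨(r.1 : B) ^ (r.2 e₀).choose * e₀, (r.2 e₀).choose_spec⟩
  let s : Set (PrimeSpectrum (B' ⧸ I')) := PrimeSpectrum.comap (Ideal.Quotient.mk I') ⁻¹' {P | K.comap ι ≤ P.asIdeal}
  have hI'K : I' ≤ K.comap ι := by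
    rw [← Ideal.map_le_iff_le_comap, hI']; exact le_sup_left
  have hs_open : s = PrimeSpectrum.comap (Ideal.Quotient.mk I') ⁻¹'
      (⋃ r : Good A B, (PrimeSpectrum.basicOpen (r.1 * c r) : Set (PrimeSpectrum B'))) := by
    ext P'
    simp only [s, Set.mem_preimage, Set.mem_iUnion]
    let P := PrimeSpectrum.comap (Ideal.Quotient.mk I') P'
    show K.comap ι ≤ P.asIdeal ↔ ∃ r : Good A B, r.1 * c r ∉ P.asIdeal
    have hIP : I' ≤ P.asIdeal := fun x hx => by
      simp [P, PrimeSpectrum.comap_asIdeal, Ideal.mem_comap, Ideal.Quotient.eq_zero_iff_mem.mpr hx]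
    constructor
    · intro hP
      obtain ⟨r, hr, hrP, Q, hKQ, hQP⟩ := hgood P hP
      refine ⟨⟨r, hr⟩, fun h => ?_⟩
      rw [← hQP, Ideal.mem_comap, map_mul] at h
      have hrQ : (r : B) ∉ Q.asIdeal := fun h' => hrP (hQP ▸ h')
      rcases Q.2.mem_or_mem h with h | h
      · exact hrQ h
      · rcases Q.2.mem_or_mem (show (r : B) ^ _ * e₀ ∈ Q.asIdeal from h) with h | h
        · exact hrQ (Q.2.mem_of_pow_mem _ h)
        · exact ((hK Q).mp hKQ).2 h
    · rintro ⟨r, hr⟩
      obtain ⟨Q, hQP⟩ := exists_prime_over r.2 P fun h => hr (P.asIdeal.mul_mem_right _ h)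
      change Q.asIdeal.comap ι = P.asIdeal at hQP
      rw [← hQP]
      refine Ideal.comap_mono ((hK Q).mpr ⟨?_, fun h => hr ?_⟩)
      · rw [← hI', Ideal.map_le_iff_le_comap, hQP]; exact hIP
      · rw [← hQP]
        exact Ideal.mul_mem_left _ _ (Q.asIdeal.mul_mem_left _ h)
  have hsclopen : IsClopen s := by
    refine ⟨(PrimeSpectrum.isClosed_zeroLocus _).preimage (PrimeSpectrum.continuous_comap _), ?_⟩
    rw [hs_open]
    exact (isOpen_iUnion fun r => (PrimeSpectrum.basicOpen _).2).preimage (PrimeSpectrum.continuous_comap _)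
  obtain ⟨e', he', hse'⟩ := PrimeSpectrum.exists_idempotent_basicOpen_eq_of_isClopen hsclopen
  obtain ⟨g, hg⟩ := Ideal.Quotient.mk_surjective e'
  -- refine the lift
  have hgJ : g ∈ (Ideal.span (Good A B) ⊔ I').radical := by
    rw [Ideal.radical_eq_sInf]
    refine Submodule.mem_sInf.mpr fun P ⟨hP, hPp⟩ => ?_
    by_contra hgP
    haveI := hPp
    have hIP : I' ≤ P := le_sup_right.trans hP
    let P' : PrimeSpectrum (B' ⧸ I') := ⟨Ideal.map (Ideal.Quotient.mk I') P, Ideal.isPrime_map_quotientMk_of_isPrime hIP⟩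
    have hcomap : (PrimeSpectrum.comap (Ideal.Quotient.mk I') P').asIdeal = P := by
      rw [PrimeSpectrum.comap_asIdeal, Ideal.comap_map_of_surjective _ Ideal.Quotient.mk_surjective,
        ← RingHom.ker_eq_comap_bot, Ideal.mk_ker, sup_eq_left.mpr hIP]
    have hmem : P' ∈ s := by
      rw [hse']
      intro h
      rw [← hg] at h
      exact hgP (hcomap ▸ (show g ∈ (PrimeSpectrum.comap (Ideal.Quotient.mk I') P').asIdeal from h))
    rw [hs_open, Set.mem_preimage, Set.mem_iUnion] at hmem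
    obtain ⟨r, hr⟩ := hmem
    exact hr (hcomap.symm ▸ Ideal.mul_mem_right (I := P) _ (hP (Ideal.mem_sup_left (Ideal.subset_span r.2))))
  obtain ⟨n, hn⟩ := hgJ
  obtain ⟨j, hj, i, hi, hji⟩ := Submodule.mem_sup.mp hn
  have hje : Ideal.Quotient.mk I' (j * g) = e' := by
    have h1 : Ideal.Quotient.mk I' (g ^ (n + 1)) = e' := by rw [map_pow, hg, he'.pow_succ_eq]
    rwa [pow_succ, ← hji, add_mul, map_add, Ideal.Quotient.eq_zero_iff_mem.mpr (I'.mul_mem_right _ hi), add_zero] at h1
  refine ⟨j * g, ?_, ?_, ?_⟩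
  · rw [hje]; exact he'
  · let q : B' ⧸ I' →+* B ⧸ IB := Ideal.quotientMap IB ι (by rw [← Ideal.map_le_iff_le_comap, hI'])
    have hqe : q e' = e := by
      refine PrimeSpectrum.basicOpen_injOn_isIdempotentElem (he'.map q) he ?_
      ext Q
      show q e' ∉ Q.asIdeal ↔ e ∉ Q.asIdeal
      let Q₀ := PrimeSpectrum.comap (Ideal.Quotient.mk IB) Q
      have hQ₀ : IB ≤ Q₀.asIdeal := fun x hx => by
        simp [Q₀, PrimeSpectrum.comap_asIdeal, Ideal.mem_comap, Ideal.Quotient.eq_zero_iff_mem.mpr hx]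
      have h1 : q e' ∉ Q.asIdeal ↔ PrimeSpectrum.comap q Q ∈ s := by rw [hse']; rfl
      have h2 : e ∉ Q.asIdeal ↔ e₀ ∉ Q₀.asIdeal := by rw [← he₀]; rfl
      rw [h1, h2]
      have h3 : (PrimeSpectrum.comap (Ideal.Quotient.mk I') (PrimeSpectrum.comap q Q)).asIdeal = Q₀.asIdeal.comap ι := by
        simp only [Q₀, PrimeSpectrum.comap_asIdeal, Ideal.comap_comap, q, Ideal.quotientMap_comp_mk]
      show K.comap ι ≤ (PrimeSpectrum.comap (Ideal.Quotient.mk I') (PrimeSpectrum.comap q Q)).asIdeal ↔ _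
      rw [h3]
      constructor
      · intro hle
        obtain ⟨r, hr, hrP, Q₁, hKQ₁, hQ₁⟩ := hgood ⟨_, Ideal.comap_isPrime ι Q₀.asIdeal⟩ hle
        have : Q₁ = Q₀ := eq_of_comap_eq hr hQ₁ fun h => hrP (hQ₁ ▸ h)
        subst this
        exact ((hK _).mp hKQ₁).2
      · intro h
        exact Ideal.comap_mono ((hK Q₀).mpr ⟨hQ₀, h⟩)
    show q (Ideal.Quotient.mk I' (j * g)) = e
    rw [hje, hqe]
  · intro x
    have hJ : Ideal.span (Good A B) ≤ Ideal.radical
        ({ carrier := {t | IsIntegral A ((t : B) * x)}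
           add_mem' := fun {a b} ha hb => by
            show IsIntegral A (((a + b : B') : B) * x)
            push_cast
            rw [add_mul]; exact ha.add hb
           zero_mem' := by
            show IsIntegral A (((0 : B') : B) * x)
            push_cast
            rw [zero_mul]; exact isIntegral_zero
           smul_mem' := fun a t ht => by
            show IsIntegral A (((a * t : B') : B) * x)
            push_cast
            rw [mul_assoc]; exact a.2.mul ht } : Ideal B') := by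
      refine Ideal.span_le.mpr fun r hr => ?_
      obtain ⟨m, hm⟩ := hr x
      exact ⟨m, show IsIntegral A (((r ^ m : B') : B) * x) by push_cast; exact hm⟩
    obtain ⟨m, hm⟩ := hJ hj
    refine ⟨m, ?_⟩
    have hm' : IsIntegral A (((j ^ m : B') : B) * x) := hm
    push_cast at hm' ⊢
    rw [mul_pow, mul_comm ((j : B) ^ m), mul_assoc]
    exact (g.2.pow m).mul hm'

end Groth.Agent.ZmtIdem
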